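import Cfsg.Agent.H802.FusAlp
import Cfsg.Agent.H759.FusNormal
import Cfsg.Agent.Lib.Cores
set_option linter.all false

/-!
# Normal subgroups of saturated fusion systems: criteria through automorphism groups (helper745)

* `isNormal_of_aut_extends`: a strongly closed `Q` is normal as soon as, for every fully automized and receptive `R`
  not containing `Q`, the group `Aut_F(R)` is generated by automorphisms which extend to larger subgroups.
* `exists_extension_of_not_radical`: if `R` is centric, receptive, fully automized and not radical, every element of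
  `Aut_F(R)` extends to a fixed larger subgroup.
* `le_of_isNormal_of_radical`: a normal subgroup is contained in every centric-radical subgroup.
-/

set_option autoImplicit false

namespace Cfsg.Agent.H745

open Cfsg Cfsg.FusionSystem Cfsg.Agent.H759

variable {Ω : Type*} [Group Ω] {S : Subgroup Ω} {F : FusionSystem S}

/-- **Normality criterion.** In a saturated fusion system a strongly closed `Q` is normal if for every fully automized
and receptive `R` not containing `Q`, the group `Aut_F(R)` is generated by the automorphisms that extend to maps of the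
system with larger source. -/
theorem isNormal_of_aut_extends [Finite S] {p : ℕ} [Fact p.Prime] (hS : IsPGroup p S)
    (hF : F.IsSaturated p) {Q : Subgroup Ω} (hQ : F.StronglyClosed Q)
    (hc : ∀ R : Subgroup Ω, F.IsFullyAutomized p R → F.IsReceptive R → ¬ Q ≤ R →
      F.autGroup R ≤ Subgroup.closure {α : MulAut R | ∃ R' : Subgroup Ω, R ≤ R' ∧
        Nat.card R < Nat.card R' ∧ ∃ ψ ∈ F.Hom R', ∀ (x : Ω) (hx : x ∈ R) (hx' : x ∈ R'),
          ψ ⟨x, hx'⟩ = (α ⟨x, hx⟩ : R)}) :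
    F.IsNormal Q := by
  apply isNormal_of_extends hQ
  have hrestr : ∀ (P R : Subgroup Ω) (φ : P →* Ω) (χ : R →* Ω), φ ∈ F.Hom P →
      (∃ ψ ∈ F.Hom (P ⊔ Q), ∀ (x : P) (hx : (x : Ω) ∈ P ⊔ Q), ψ ⟨x, hx⟩ = φ x) → ∀ h : R ≤ P,
      (∀ x : R, χ x = φ ⟨x, h x.2⟩) →
      ∃ ψ ∈ F.Hom (R ⊔ Q), ∀ (x : R) (hx : (x : Ω) ∈ R ⊔ Q), ψ ⟨x, hx⟩ = χ x := by
    rintro P R φ χ hφ ⟨ψ, hψ, h⟩ hR hχ
    have hle : R ⊔ Q ≤ P ⊔ Q := sup_le_sup_right hR Q
    refine ⟨ψ.comp (Subgroup.inclusion hle), res_mem_comp F hψ hle, fun x hx => ?_⟩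
    rw [hχ x]
    exact h ⟨x, hR x.2⟩ (hle hx)
  have hcomp : ∀ (P R : Subgroup Ω) (φ : P →* Ω) (ψ : R →* Ω) (χ : P →* Ω), φ ∈ F.Hom P →
      ψ ∈ F.Hom R →
      (∃ ψ ∈ F.Hom (P ⊔ Q), ∀ (x : P) (hx : (x : Ω) ∈ P ⊔ Q), ψ ⟨x, hx⟩ = φ x) →
      (∃ ψ' ∈ F.Hom (R ⊔ Q), ∀ (x : R) (hx : (x : Ω) ∈ R ⊔ Q), ψ' ⟨x, hx⟩ = ψ x) →
      (∀ x : P, ∃ h : φ x ∈ R, χ x = ψ ⟨φ x, h⟩) →
      ∃ ψ ∈ F.Hom (P ⊔ Q), ∀ (x : P) (hx : (x : Ω) ∈ P ⊔ Q), ψ ⟨x, hx⟩ = χ x := by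
    rintro P R φ ψ χ hφ hψ ⟨φ', hφ', h⟩ ⟨ψ', hψ', h'⟩ hχ
    have hQT : ∀ y : (P ⊔ Q : Subgroup Ω), φ' y ∈ R ⊔ Q := by
      apply hom_sup_mem
      · intro x hx hx'
        obtain ⟨h2, -⟩ := hχ ⟨x, hx⟩
        rw [h ⟨x, hx⟩ hx']
        exact (le_sup_left : R ≤ R ⊔ Q) h2
      · intro x hx hx'
        have h1 : φ' ⟨x, hx'⟩ ∈ Q := StronglyClosed.apply_mem hQ hφ' (x := ⟨x, hx'⟩) hx
        exact (le_sup_right : Q ≤ R ⊔ Q) h1
    refine ⟨ψ'.comp (φ'.codRestrict _ hQT), F.comp_mem hφ' hψ' hQT, fun x hx => ?_⟩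
    obtain ⟨h2, h3⟩ := hχ x
    rw [h3]
    have h4 : φ x ∈ R ⊔ Q := (le_sup_left : R ≤ R ⊔ Q) h2
    rw [← h' ⟨φ x, h2⟩ h4]
    show ψ' ⟨φ' ⟨x, hx⟩, _⟩ = ψ' ⟨φ x, h4⟩
    congr 1
    exact Subtype.ext (h x hx)
  have hinv' : ∀ (P R : Subgroup Ω) (φ : P →* Ω) (χ : R →* Ω), φ ∈ F.Hom P →
      (∃ ψ ∈ F.Hom (P ⊔ Q), ∀ (x : P) (hx : (x : Ω) ∈ P ⊔ Q), ψ ⟨x, hx⟩ = φ x) → χ ∈ F.Hom R →
      (∀ y : R, ∃ x : P, φ x = y ∧ χ y = x) →
      ∃ ψ ∈ F.Hom (R ⊔ Q), ∀ (x : R) (hx : (x : Ω) ∈ R ⊔ Q), ψ ⟨x, hx⟩ = χ x := by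
    rintro P R φ χ hφ ⟨φ', hφ', h⟩ hχ hinv
    have hle : R ⊔ Q ≤ φ'.range := by
      refine sup_le ?_ ?_
      · intro y hy
        obtain ⟨x, hx, -⟩ := hinv ⟨y, hy⟩
        refine ⟨⟨x, (le_sup_left : P ≤ P ⊔ Q) x.2⟩, ?_⟩
        rw [h x, hx]
      · intro t ht
        obtain ⟨x, hx, h1⟩ := StronglyClosed.exists_preimage hQ hφ' (le_sup_right : Q ≤ P ⊔ Q) ht
        exact ⟨_, h1⟩
    obtain ⟨ψ, hψ, h1⟩ := exists_inv F hφ' hle
    refine ⟨ψ, hψ, fun y hy => ?_⟩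
    obtain ⟨x, hx, h3⟩ := hinv y
    have hx' : (x : Ω) ∈ P ⊔ Q := (le_sup_left : P ≤ P ⊔ Q) x.2
    have h4 : φ' ⟨x, hx'⟩ ∈ R ⊔ Q := by rw [h x, hx]; exact hy
    have h5 := h1 _ h4
    have h6 : (⟨φ' ⟨x, hx'⟩, h4⟩ : (R ⊔ Q : Subgroup Ω)) = ⟨y, hy⟩ :=
      Subtype.ext ((h x hx').trans hx)
    rw [h6] at h5
    rw [h5, h3]
  refine saturated_induction F hS hF
    (fun P φ => ∃ ψ ∈ F.Hom (P ⊔ Q), ∀ (x : P) (hx : (x : Ω) ∈ P ⊔ Q), ψ ⟨x, hx⟩ = φ x)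
    hrestr hcomp hinv' ?_
  intro R hRa hRr IH α hα
  have hRS : R ≤ S := hRa.1
  by_cases hQR : Q ≤ R
  · have hle : R ⊔ Q ≤ R := sup_le le_rfl hQR
    exact ⟨_, res_mem_comp F ((mem_autGroup F hRS).1 hα) hle, fun x hx => rfl⟩
  · -- the set of automorphisms that extend
    have key : ∀ β ∈ Subgroup.closure {α : MulAut R | ∃ R' : Subgroup Ω, R ≤ R' ∧
        Nat.card R < Nat.card R' ∧ ∃ ψ ∈ F.Hom R', ∀ (x : Ω) (hx : x ∈ R) (hx' : x ∈ R'),
          ψ ⟨x, hx'⟩ = (α ⟨x, hx⟩ : R)}, R.subtype.comp β.toMonoidHom ∈ F.Hom R ∧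
          ∃ ψ ∈ F.Hom (R ⊔ Q), ∀ (x : R) (hx : (x : Ω) ∈ R ⊔ Q),
            ψ ⟨x, hx⟩ = (R.subtype.comp β.toMonoidHom) x := by
      intro β hβ
      refine Subgroup.closure_induction
        (p := fun β _ => R.subtype.comp β.toMonoidHom ∈ F.Hom R ∧
          ∃ ψ ∈ F.Hom (R ⊔ Q), ∀ (x : R) (hx : (x : Ω) ∈ R ⊔ Q),
            ψ ⟨x, hx⟩ = (R.subtype.comp β.toMonoidHom) x) ?_ ?_ ?_ ?_ hβ
      · rintro β ⟨R', hRR', hlt, ψ, hψ, he⟩
        have hβF : R.subtype.comp β.toMonoidHom ∈ F.Hom R :=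
          res_mem F hψ hRR' (fun x => (he x x.2 _).symm)
        refine ⟨hβF, ?_⟩
        exact hrestr R' R ψ _ hψ (IH R' ψ hψ hlt) hRR' (fun x => (he x x.2 _).symm)
      · refine ⟨incl_mem' F hRS fun x => rfl, ?_⟩
        have hle : R ⊔ Q ≤ S := sup_le hRS hQ.1
        exact ⟨_, incl_mem F hle, fun x hx => rfl⟩
      · rintro a b _ _ ⟨ha, ha'⟩ ⟨hb, hb'⟩
        have hab : ∀ x : R, ∃ h : (R.subtype.comp b.toMonoidHom) x ∈ R,
            (R.subtype.comp (a * b).toMonoidHom) x =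
              (R.subtype.comp a.toMonoidHom) ⟨(R.subtype.comp b.toMonoidHom) x, h⟩ :=
          fun x => ⟨(b x).2, rfl⟩
        exact ⟨comp_mem' F hb ha hab, hcomp R R _ _ _ hb ha hb' ha' hab⟩
      · rintro a _ ⟨ha, ha'⟩
        have ha2 : a ∈ F.autGroup R := (mem_autGroup F hRS).2 ha
        have ha3 := (mem_autGroup F hRS).1 (inv_mem ha2)
        refine ⟨ha3, hinv' R R _ _ ha ha' ha3 fun y => ⟨a⁻¹ y, ?_, rfl⟩⟩
        show ((a (a⁻¹ y) : R) : Ω) = y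
        rw [MulAut.apply_inv_self]
    exact (key α (hc R hRa hRr hQR hα)).2

/-- If `K` is a normal `p`-subgroup of `Aut_F(R)`, `R` fully automized and receptive, every element of `Aut_F(R)` extends
to the preimage of `K` in `N_S(R)`. -/
theorem exists_extension_of_normal_pgroup [Finite S] {p : ℕ} [Fact p.Prime] {R : Subgroup Ω}
    (hRa : F.IsFullyAutomized p R) (hRr : F.IsReceptive R) {K : Subgroup (MulAut R)}
    (hKA : K ≤ F.autGroup R) (hKn : ∀ a ∈ F.autGroup R, ∀ k ∈ K, a * k * a⁻¹ ∈ K)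
    (hK : IsPGroup p K) {N : Subgroup Ω} (hN : N ≤ normalizerIn S R)
    (hNK : ∀ (g : Ω) (hg : g ∈ N), conjAut R g (hN hg).2 ∈ K)
    {α : MulAut R} (hα : α ∈ F.autGroup R) :
    ∃ ψ ∈ F.Hom N, ∀ (x : Ω) (hx : x ∈ R) (hx' : x ∈ N), ψ ⟨x, hx'⟩ = (α ⟨x, hx⟩ : R) := by
  have hRS : R ≤ S := hRa.1
  have hfR : Finite R := Finite.of_injective _ (Subgroup.inclusion_injective hRS)
  have hKS := le_autInducedBy_of_normal hRa K hKA hKn hK
  have hαm := (mem_autGroup F hRS).1 hα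
  have hr : (R.subtype.comp α.toMonoidHom).range = R := by
    ext y
    constructor
    · rintro ⟨x, rfl⟩; exact (α x).2
    · intro hy
      exact ⟨α⁻¹ ⟨y, hy⟩, by
        show ((α (α⁻¹ ⟨y, hy⟩) : R) : Ω) = y
        rw [MulAut.apply_inv_self]⟩
  obtain ⟨ψ, hψ, he⟩ := hRr.2 R _ hαm hr
  have hle : N ≤ extender S R (R.subtype.comp α.toMonoidHom) := by
    intro g hg
    rw [H802.mem_extender_iff]
    refine ⟨(hN hg).1, (hN hg).2, ?_⟩
    obtain ⟨k, hk, hke⟩ := mem_autInducedBy.1 (hKS (hKn α hα _ (hNK g hg)))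
    refine ⟨k, hk, fun x hx => ?_⟩
    have h1 := hke (α x)
    rw [MulAut.mul_apply, MulAut.mul_apply, MulAut.inv_apply_self] at h1
    exact h1
  exact ⟨ψ.comp (Subgroup.inclusion hle), res_mem_comp F hψ hle, fun x hx hx' => he x hx _⟩

/-- `Inn(P) ≤ Aut_F(P)` for `P ≤ S`. -/
theorem inn_le_autGroup {P : Subgroup Ω} (hP : P ≤ S) : Inn P ≤ F.autGroup P := by
  rintro _ ⟨g, rfl⟩
  refine (mem_autGroup F hP).2 (conj_mem' F hP (hP g.2) fun x => ?_)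
  rfl

/-- The largest normal `p`-subgroup of `Aut_F(R)`, as a subgroup of `Aut(R)`. -/
theorem pCore_map_facts {p : ℕ} (R : Subgroup Ω) :
    (pCore p (F.autGroup R)).map (F.autGroup R).subtype ≤ F.autGroup R ∧
    (∀ a ∈ F.autGroup R, ∀ k ∈ (pCore p (F.autGroup R)).map (F.autGroup R).subtype,
      a * k * a⁻¹ ∈ (pCore p (F.autGroup R)).map (F.autGroup R).subtype) ∧
    IsPGroup p ((pCore p (F.autGroup R)).map (F.autGroup R).subtype) := by
  refine ⟨Subgroup.map_subtype_le _, ?_, (Lib.Cores.pCore_isPGroup p).map _⟩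
  rintro a ha _ ⟨k, hk, rfl⟩
  have h1 := (Lib.Cores.pCore_normal (G := F.autGroup R) p).conj_mem k hk ⟨a, ha⟩
  exact ⟨_, h1, rfl⟩

/-- A normal `p`-subgroup of `Aut_F(R)` lies in `O_p(Aut_F(R))`. -/
theorem le_map_pCore {p : ℕ} {R : Subgroup Ω} {K : Subgroup (MulAut R)}
    (hKA : K ≤ F.autGroup R) (hKn : ∀ a ∈ F.autGroup R, ∀ k ∈ K, a * k * a⁻¹ ∈ K)
    (hK : IsPGroup p K) : K ≤ (pCore p (F.autGroup R)).map (F.autGroup R).subtype := by
  have hn : (K.subgroupOf (F.autGroup R)).Normal := ⟨fun n hn g => hKn g g.2 n hn⟩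
  have hK' : IsPGroup p (K.subgroupOf (F.autGroup R)) :=
    hK.comap_of_injective (F.autGroup R).subtype (F.autGroup R).subtype_injective
  intro k hk
  exact ⟨⟨k, hKA hk⟩, Lib.Cores.le_pCore hn hK' hk, rfl⟩

/-- If `R` is fully automized, receptive and not radical, there is a subgroup `N > R` of `N_S(R)` to which all elements
of `Aut_F(R)` extend. -/
theorem exists_extension_of_not_radical [Finite S] {p : ℕ} [Fact p.Prime] (hS : IsPGroup p S)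
    {R : Subgroup Ω} (hRa : F.IsFullyAutomized p R) (hRr : F.IsReceptive R)
    (hR : ¬ F.IsRadical p R) :
    ∃ N : Subgroup Ω, N ≤ normalizerIn S R ∧ R < N ∧ ∀ α ∈ F.autGroup R,
      ∃ ψ ∈ F.Hom N, ∀ (x : Ω) (hx : x ∈ R) (hx' : x ∈ N), ψ ⟨x, hx'⟩ = (α ⟨x, hx⟩ : R) := by
  have hRS : R ≤ S := hRa.1
  have hfR : Finite R := Finite.of_injective _ (Subgroup.inclusion_injective hRS)
  obtain ⟨hKA, hKn, hKp⟩ := pCore_map_facts (F := F) (p := p) R
  set K := (pCore p (F.autGroup R)).map (F.autGroup R).subtype with hKdef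
  have hInnp : IsPGroup p (Inn R) := (hS.to_le hRS).of_surjective
    (MulAut.conj : R →* MulAut R).rangeRestrict (MonoidHom.rangeRestrict_surjective _)
  have hInnn : ∀ a ∈ F.autGroup R, ∀ k ∈ Inn R, a * k * a⁻¹ ∈ Inn R := by
    rintro a _ _ ⟨g, rfl⟩
    refine ⟨a g, ?_⟩
    apply MulEquiv.ext
    intro x
    show a g * x * (a g)⁻¹ = a (g * a⁻¹ x * g⁻¹)
    rw [map_mul, map_mul, map_inv, MulAut.apply_inv_self]
  have hInnK : Inn R ≤ K := le_map_pCore (inn_le_autGroup hRS) hInnn hInnp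
  have hKS := le_autInducedBy_of_normal hRa K hKA hKn hKp
  have hne : ∃ κ ∈ K, κ ∉ Inn R := by
    by_contra hcon
    push Not at hcon
    exact hR ⟨hRS, le_antisymm hcon hInnK⟩
  -- the preimage of `K` in `N_S(R)`
  let N : Subgroup Ω :=
    { carrier := {g | ∃ h : g ∈ normalizerIn S R, conjAut R g h.2 ∈ K}
      one_mem' := ⟨one_mem _, by
        have h1 : conjAut R 1 (one_mem _) = 1 := by
          ext x
          simp [coe_conjAut]
        rw [h1]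
        exact one_mem _⟩
      mul_mem' := by
        rintro a b ⟨ha, ha'⟩ ⟨hb, hb'⟩
        refine ⟨mul_mem ha hb, ?_⟩
        have h1 : conjAut R (a * b) (mul_mem ha hb : a * b ∈ normalizerIn S R).2 =
            conjAut R a ha.2 * conjAut R b hb.2 := by
          ext x
          rw [MulAut.mul_apply, coe_conjAut, coe_conjAut, coe_conjAut]
          group
        rw [h1]
        exact mul_mem ha' hb'
      inv_mem' := by
        rintro a ⟨ha, ha'⟩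
        refine ⟨inv_mem ha, ?_⟩
        have h1 : conjAut R a⁻¹ (inv_mem ha : a⁻¹ ∈ normalizerIn S R).2 = (conjAut R a ha.2)⁻¹ := by
          rw [eq_inv_iff_mul_eq_one]
          ext x
          rw [MulAut.mul_apply, coe_conjAut, coe_conjAut]
          simp [mul_assoc]
        rw [h1]
        exact inv_mem ha' }
  have hNn : N ≤ normalizerIn S R := fun g hg => hg.1
  have hRN : R ≤ N := by
    intro g hg
    refine ⟨le_normalizerIn hRS hg, hInnK ⟨⟨g, hg⟩, ?_⟩⟩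
    ext x
    rw [coe_conjAut]
    rfl
  refine ⟨N, hNn, lt_of_le_of_ne hRN ?_, fun α hα =>
    exists_extension_of_normal_pgroup hRa hRr hKA hKn hKp hNn (fun g hg => hg.2) hα⟩
  intro heq
  obtain ⟨κ, hκ, hκn⟩ := hne
  obtain ⟨g, hg, hge⟩ := mem_autInducedBy.1 (hKS hκ)
  have hgn : g ∈ Subgroup.normalizer (R : Set Ω) := H802.mem_normalizer_of_aut hge
  have h1 : conjAut R g hgn = κ := by
    ext x
    rw [coe_conjAut, hge]
  have h2 : g ∈ N := ⟨⟨hg, hgn⟩, by rw [h1]; exact hκ⟩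
  rw [← heq] at h2
  refine hκn ⟨⟨g, h2⟩, ?_⟩
  rw [← h1]
  ext x
  rw [coe_conjAut]
  rfl

/-- A subgroup normal in the system is contained in every centric-radical subgroup. -/
theorem le_of_isNormal_of_radical [Finite S] {p : ℕ} [Fact p.Prime] (hS : IsPGroup p S)
    {Q P : Subgroup Ω} (hQ : F.IsNormal Q) (hPc : F.IsCentric P) (hPr : F.IsRadical p P) :
    Q ≤ P := by
  have hPS : P ≤ S := hPc.1
  have hfP : Finite P := Finite.of_injective _ (Subgroup.inclusion_injective hPS)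
  have hQsc := IsNormal.stronglyClosed hQ
  by_contra hQP
  have hlt : P < P ⊔ Q := lt_of_le_of_ne le_sup_left fun h => hQP (h ▸ le_sup_right)
  have hPQS : P ⊔ Q ≤ S := sup_le hPS hQ.1
  obtain ⟨g, hg, hgP, hgn⟩ := exists_mem_normalizer_not_mem hS hPQS hlt
  -- `K` is the group of automorphisms induced by `N_{PQ}(P)`
  set N : Subgroup Ω := (P ⊔ Q) ⊓ Subgroup.normalizer (P : Set Ω) with hN
  have hKA : autInducedBy N P ≤ F.autGroup P := by
    intro κ hκ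
    obtain ⟨k, hk, hke⟩ := mem_autInducedBy.1 hκ
    exact (mem_autGroup F hPS).2 (conj_mem' F hPS (hPQS hk.1) hke)
  have hKp : IsPGroup p (autInducedBy N P) :=
    H802.isPGroup_autInducedBy (hS.to_le (inf_le_left.trans hPQS)) P
  have hKn : ∀ a ∈ F.autGroup P, ∀ k ∈ autInducedBy N P, a * k * a⁻¹ ∈ autInducedBy N P := by
    intro a ha κ hκ
    obtain ⟨k, hk, hke⟩ := mem_autInducedBy.1 hκ
    obtain ⟨ψ, hψ, hψP, hψQ⟩ := hQ.2 P _ ((mem_autGroup F hPS).1 ha)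
    have hψm : ∀ y : (P ⊔ Q : Subgroup Ω), ψ y ∈ P ⊔ Q := by
      apply hom_sup_mem
      · intro x hx hx'
        have h1 := hψP ⟨x, hx⟩
        have h2 : ψ ⟨x, hx'⟩ = (a ⟨x, hx⟩ : P) := h1
        rw [h2]
        exact (le_sup_left : P ≤ P ⊔ Q) (a _).2
      · intro x hx hx'
        exact (le_sup_right : Q ≤ P ⊔ Q) (StronglyClosed.apply_mem hQsc hψ (x := ⟨x, hx'⟩) hx)
    refine mem_autInducedBy.2 ⟨ψ ⟨k, hk.1⟩, ?_, ?_⟩
    · refine ⟨hψm _, ?_⟩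
      refine H802.mem_normalizer_of_aut (α := a * κ * a⁻¹) ?_
      intro x
      have h1 : ((a * κ * a⁻¹) x : P) = a (κ (a⁻¹ x)) := rfl
      have h2 : ψ (Subgroup.inclusion le_sup_left (κ (a⁻¹ x))) = (a (κ (a⁻¹ x)) : P) := hψP _
      have h3 : Subgroup.inclusion (le_sup_left : P ≤ P ⊔ Q) (κ (a⁻¹ x)) =
          ⟨k, hk.1⟩ * Subgroup.inclusion le_sup_left (a⁻¹ x) * ⟨k, hk.1⟩⁻¹ :=
        Subtype.ext (hke _)
      rw [h1, ← h2, h3, map_mul, map_mul, map_inv]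
      have h4 : ψ (Subgroup.inclusion le_sup_left (a⁻¹ x)) = (a (a⁻¹ x) : P) := hψP _
      rw [h4, MulAut.apply_inv_self]
    · intro x
      have h1 : ((a * κ * a⁻¹) x : P) = a (κ (a⁻¹ x)) := rfl
      have h2 : ψ (Subgroup.inclusion le_sup_left (κ (a⁻¹ x))) = (a (κ (a⁻¹ x)) : P) := hψP _
      have h3 : Subgroup.inclusion (le_sup_left : P ≤ P ⊔ Q) (κ (a⁻¹ x)) =
          ⟨k, hk.1⟩ * Subgroup.inclusion le_sup_left (a⁻¹ x) * ⟨k, hk.1⟩⁻¹ :=
        Subtype.ext (hke _)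
      rw [h1, ← h2, h3, map_mul, map_mul, map_inv]
      have h4 : ψ (Subgroup.inclusion le_sup_left (a⁻¹ x)) = (a (a⁻¹ x) : P) := hψP _
      rw [h4, MulAut.apply_inv_self]
  have hle := le_map_pCore hKA hKn hKp
  rw [hPr.2] at hle
  have hgK : conjAut P g hgn ∈ autInducedBy N P :=
    mem_autInducedBy.2 ⟨g, ⟨hg, hgn⟩, fun x => coe_conjAut hgn x⟩
  obtain ⟨x, hx⟩ := hle hgK
  -- `x⁻¹ g` centralizes `P`
  have h1 : (x : Ω)⁻¹ * g ∈ centralizerIn S P := by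
    refine ⟨S.mul_mem (S.inv_mem (hPS x.2)) (hPQS hg),
      Subgroup.mem_centralizer_iff.2 fun y hy => ?_⟩
    have h2 : ((MulAut.conj x) ⟨y, hy⟩ : P) = conjAut P g hgn ⟨y, hy⟩ := by rw [hx]
    have h3 : (x : Ω) * y * (x : Ω)⁻¹ = g * y * g⁻¹ := by
      have := congrArg Subtype.val h2
      rw [coe_conjAut] at this
      exact this
    calc y * ((x : Ω)⁻¹ * g) = (x : Ω)⁻¹ * (x * y * (x : Ω)⁻¹) * g := by group
      _ = (x : Ω)⁻¹ * (g * y * g⁻¹) * g := by rw [h3]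
      _ = (x : Ω)⁻¹ * g * y := by group
  have h2 : (x : Ω)⁻¹ * g ∈ P := hPc.2 P (H802.isConj_refl F hPS) h1
  refine hgP ?_
  have h3 := mul_mem x.2 h2
  rwa [mul_inv_cancel_left] at h3

end Cfsg.Agent.H745
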